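import Cfsg.Agent.H195.OutU.Base
import Cfsg.Agent.ClassicalGeometry.PSUAutMain

/-!
# Automorphisms of `PSU_n(2^m)`, `n = 2 ^ t + 1`, and element orders (helper195)
-/

set_option autoImplicit false
set_option linter.unusedSectionVars false

namespace Cfsg.Agent.H195.OutU.Main

open Matrix Cfsg Cfsg.Agent.LieClassical.HermBasic Cfsg.Agent.LieClassical.HermSiegel
open Cfsg.Agent.CpAut.Psl (fixf mem_fixf)
open Cfsg.Agent.CpAutU.Fld Cfsg.Agent.CpAutU.Desc Cfsg.Agent.CpAutU.Fixed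
open Cfsg.Agent.ClassicalGeometry.PSUAutCount (gm semiConj toAut gm_mul gm_one gm_mul_inv gm_inv_mul eq_of_toAut_eq
  sc gm_sc_mul toAut_sc_mul herm_gm act_semiConj herm_semi gm_mulVec_inv gm_inv_mulVec gm_inj)
open Cfsg.Agent.ClassicalGeometry.UnitAutBasic (pr pr_surjective)
open Cfsg.Agent.Schreier.PSU (f₁ f₂ toAut_eq mapGU conj_field toAut_pr' gm_mapGU)
open Cfsg.Agent.H373.Outer Cfsg.Agent.H195.OutU Cfsg.Agent.H195.OutU.Base Cfsg.Agent.H195.OutU.Num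
open Cfsg.Agent.H403.NumTop

universe v

variable {F : Type v} [Field F] [Fintype F] {q : ℕ}

section upper

theorem lin_dvd (hF : Fintype.card F = q ^ 2) {n : ℕ} (hn : 3 ≤ n) (hne : Even (n - 1)) {g : PSU n F q} {s : ℕ}
    (hs : s.Prime) (hi : orderOf ((-(q : ℤ) : ℤ) : ZMod s) = n - 1) (hg : s ∣ orderOf g) (h0 : 0 < orderOf g) :
    orderOf g * Nat.gcd n (q + 1) ∣ q ^ (n - 1) - 1 := by
  have hL := Cfsg.Agent.H403.lin_psu (E := AlgebraicClosure F) (n := n) hF hn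
  have h := Lin.dvd_pred (e := false) hL (by simpa using hF) hn hs (by simpa [xv] using hi) hg h0
  have e1 : AA false 1 q = q + 1 := by simp [AA]
  have e2 : AA false (n - 1) q = q ^ (n - 1) - 1 := by
    unfold AA
    rw [if_pos]
    simpa using (Nat.even_iff.1 hne)
  rwa [e1, e2] at h

theorem lin_top [CharP F 2] (hF : Fintype.card F = q ^ 2) {t : ℕ} (ht : 1 ≤ t) {g : PSU (2 ^ t + 1) F q}
    (hg : 2 ^ (t + 1) ∣ orderOf g) (h0 : 0 < orderOf g) : orderOf g = 2 ^ (t + 1) := by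
  have : Fact (Nat.Prime 2) := ⟨Nat.prime_two⟩
  have h2 : 2 ≤ 2 ^ t := by
    calc 2 = 2 ^ 1 := by norm_num
      _ ≤ 2 ^ t := Nat.pow_le_pow_right (by norm_num) ht
  have hL := Cfsg.Agent.H403.lin_psu (E := AlgebraicClosure F) (n := 2 ^ t + 1) hF (by omega)
  exact Lin.top_two (p := 2) hL rfl hg h0

end upper

section comm

variable {n : ℕ}

/-- product of a commuting automorphism and an inner one -/
theorem exists_prod (hZ : Subgroup.center (PSU n F q) = ⊥) {𝒜 : Subgroup (MulAut (PSU n F q))}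
    (hI : Inn n F q ≤ 𝒜) {β : MulAut (PSU n F q)} (hβ : β ∈ 𝒜) {y : PSU n F q} (hy : β y = y)
    (hcop : Nat.Coprime (orderOf β) (orderOf y)) : ∃ a ∈ 𝒜, orderOf a = orderOf β * orderOf y := by
  refine ⟨β * MulAut.conj y, 𝒜.mul_mem hβ (hI ⟨_, rfl⟩), ?_⟩
  have hcomm : Commute β (MulAut.conj y) := by
    show β * _ = _ * β
    ext z
    simp only [MulAut.mul_apply, MulAut.conj_apply, map_mul, map_inv, hy]
  have hco : orderOf (MulAut.conj y : MulAut (PSU n F q)) = orderOf y := orderOf_injective _ (conj_injective hZ) y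
  rw [hcomm.orderOf_mul_eq_mul_orderOf_of_coprime (by rw [hco]; exact hcop), hco]

/-- the coset of an automorphism -/
theorem mem_of_det {𝒜 : Subgroup (MulAut (PSU n F q))} (hI : Inn n F q ≤ 𝒜) {B C : GU n F q} {ρ : F ≃+* F}
    (hB : toAut B ρ ∈ 𝒜) {c : F} (hc : c * c ^ q = 1) (h : (gm C).det = (gm B).det * c ^ n) : toAut C ρ ∈ 𝒜 := by
  refine mem_of_mul_inv (b := toAut B ρ) (hI ?_) hB
  have h1 : toAut C ρ * (toAut B ρ)⁻¹ = f₁ (C * B⁻¹) := by
    rw [toAut_eq, toAut_eq, map_mul, map_inv]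
    group
  rw [h1]
  refine inn_of_det hc ?_
  rw [det_gm_mul, h]
  have h2 := det_gm_inv B
  linear_combination (c ^ n) * h2

end comm

section odd

/-- **Automorphisms with field part of odd order.** -/
theorem odd_case [CharP F 2] (hF : Fintype.card F = q ^ 2) {t : ℕ} (hq : Even q)
    (hZ : Subgroup.center (PSU (2 * 2 ^ (t + 1) + 1) F q) = ⊥)
    {𝒜 : Subgroup (MulAut (PSU (2 * 2 ^ (t + 1) + 1) F q))} (hI : Inn (2 * 2 ^ (t + 1) + 1) F q ≤ 𝒜)
    (hω : ∀ a ∈ 𝒜, ∃ x : PSU (2 * 2 ^ (t + 1) + 1) F q, orderOf x = orderOf a)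
    {B : GU (2 * 2 ^ (t + 1) + 1) F q} {ρ : F ≃+* F} {r : ℕ} (hρ : orderOf ρ = r) (hr : Odd r) (hr1 : r = 1 ∨ r.Prime)
    (hB : toAut B ρ ∈ 𝒜) : r = 1 ∧ toAut B ρ ∈ Inn (2 * 2 ^ (t + 1) + 1) F q := by
  obtain ⟨n, hn⟩ : ∃ n, n = 2 * 2 ^ (t + 1) + 1 := ⟨_, rfl⟩
  have hk2 : 2 ≤ 2 * 2 ^ (t + 1) := by
    have : 0 < 2 ^ (t + 1) := by positivity
    omega
  obtain ⟨u, hu2, hu, hqu⟩ := exists_s' hF hρ hr
  have hue : Even u := by
    rw [hqu] at hq
    exact (Nat.even_pow.1 hq).1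
  -- the prime `s`
  obtain ⟨s, hs, hsd⟩ := Nat.exists_prime_and_dvd (n := u ^ 2 ^ (t + 1) + 1) (by
    have : 0 < u ^ 2 ^ (t + 1) := by positivity
    omega)
  have hs2 : s ≠ 2 := by
    rintro rfl
    have h1 : Even (u ^ 2 ^ (t + 1)) := Nat.even_pow.2 ⟨hue, by positivity⟩
    rw [← even_iff_two_dvd, Nat.even_add_one] at hsd
    exact hsd h1
  have hidx : orderOf ((-(q : ℤ) : ℤ) : ZMod s) = 2 * 2 ^ (t + 1) := by
    have := order_index (t := t) hs hs2 hsd hr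
    rw [← hqu] at this
    rw [this, pow_succ, pow_succ]
    ring
  have hscop : Nat.Coprime s (u + 1) := coprime_index hs hs2 hsd
  have hsk : s ∣ u ^ (2 * 2 ^ (t + 1)) - 1 := by
    have h1 : u ^ (2 * 2 ^ (t + 1)) - 1 = (u ^ 2 ^ (t + 1) + 1) * (u ^ 2 ^ (t + 1) - 1) := by
      have h2 := Nat.sq_sub_sq (u ^ 2 ^ (t + 1)) 1
      rw [one_pow, ← pow_mul, mul_comm (2 ^ (t + 1)) 2] at h2
      exact h2
    rw [h1]
    exact hsd.mul_right _
  have huq : u + 1 ∣ q + 1 := by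
    rw [hqu]
    have := hr.nat_add_dvd_pow_add_pow u 1
    simpa using this
  have hscopq : Nat.Coprime s (q + 1) := by
    have h1 : s ∣ q ^ 2 ^ (t + 1) + 1 := by
      rw [hqu, ← pow_mul, mul_comm r, pow_mul]
      have := hr.nat_add_dvd_pow_add_pow (u ^ 2 ^ (t + 1)) 1
      rw [one_pow] at this
      exact hsd.trans this
    exact coprime_index hs hs2 h1
  obtain ⟨X, hXo, hX⟩ := exists_fixed_X (ρ := ρ) hF hr hu hqu (m := 2 ^ (t + 1)) Nat.one_le_two_pow hsk hs.pos hscop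
  have hXp : orderOf (pr (2 * 2 ^ (t + 1) + 1) F q X) = s := by
    have h1 := Cfsg.Agent.H373.SpEmb.orderOf_pr (n := 2 * 2 ^ (t + 1) + 1) hF (by omega) (y := X)
      (by rw [hXo]; exact hscopq)
    rw [hXo] at h1
    exact h1
  -- the automorphism
  obtain ⟨δ, hδ⟩ : ∃ δ, δ = (gm B).det := ⟨_, rfl⟩
  have hδ1 : δ * δ ^ q = 1 := by rw [hδ]; exact det_unit hF B
  have hδ0 : δ ≠ 0 := by
    rintro rfl
    rw [zero_mul] at hδ1
    exact zero_ne_one hδ1
  set β : MulAut (PSU (2 * 2 ^ (t + 1) + 1) F q) := toAut (dg (2 * 2 ^ (t + 1)) δ hδ1) ρ with hβ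
  have hβA : β ∈ 𝒜 := mem_of_det hI hB (c := 1) (by rw [one_pow, one_mul]) (by
    rw [det_dg, hδ, one_pow, mul_one])
  have hβX : β (pr _ F q X) = pr _ F q X := by
    rw [hβ, toAut_pr', hX]
  have hβXj : ∀ j : ℕ, (β ^ j) (pr _ F q X) = pr _ F q X := by
    intro j
    induction j with
    | zero => rfl
    | succ j ih => rw [pow_succ β j, MulAut.mul_apply, hβX, ih]
  have key : ∀ j : ℕ, Nat.Coprime (orderOf (β ^ j)) s →
      orderOf (β ^ j) * s * Nat.gcd (2 * 2 ^ (t + 1) + 1) (q + 1) ∣ q ^ (2 * 2 ^ (t + 1)) - 1 := by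
    intro j hj
    obtain ⟨a, haA, ha⟩ := exists_prod hZ hI (𝒜.pow_mem hβA j) (hβXj j) (by rw [hXp]; exact hj)
    obtain ⟨g, hg⟩ := hω a haA
    have hpos : 0 < orderOf g := orderOf_pos g
    have h1 := lin_dvd hF (n := 2 * 2 ^ (t + 1) + 1) (by omega) (by
      rw [Nat.add_sub_cancel]; exact even_two_mul _) (g := g) hs (by rw [Nat.add_sub_cancel]; exact hidx)
      (by rw [hg, ha, hXp]; exact dvd_mul_left _ _) hpos
    rw [hg, ha, hXp, Nat.add_sub_cancel] at h1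
    exact h1
  -- the norm
  have hρr : ρ ^ r = 1 := by rw [← hρ, pow_orderOf_eq_one]
  obtain ⟨z, hz⟩ : ∃ z, z = nrm ρ r δ := ⟨_, rfl⟩
  have hzu : z * z ^ q = 1 := by rw [hz]; exact nrm_unit ρ r hδ1
  have hz0 : z ≠ 0 := by
    rintro rfl
    rw [zero_mul] at hzu
    exact zero_ne_one hzu
  have hβr : orderOf (β ^ r) = orderOf z := by
    obtain ⟨h, hj⟩ := exists_pow_dg (k := 2 * 2 ^ (t + 1)) ρ δ hδ1 r
    rw [hβ, hj, hρr, orderOf_toAut_dg hF hk2, hz]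
  have hrβ : r ∣ orderOf β := by
    obtain ⟨h, hj⟩ := exists_pow_dg (k := 2 * 2 ^ (t + 1)) ρ δ hδ1 (orderOf β)
    rw [← hβ, pow_orderOf_eq_one] at hj
    have h1 := (toAut_dg_eq_one hF hk2 hj.symm).2
    rw [← hρ]
    exact orderOf_dvd_of_pow_eq_one h1
  have hβo : orderOf β = r * orderOf z := by
    obtain ⟨w, hw⟩ := hrβ
    have h1 := orderOf_pow_of_dvd (x := β) hr.pos.ne' (Dvd.intro w hw.symm)
    rw [hβr, hw, Nat.mul_div_cancel_left _ hr.pos] at h1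
    rw [hw, h1]
  have hzfix : ρ z = z := by rw [hz]; exact map_nrm hρr hδ0
  have hzq : z ^ q = z ^ u := pow_q hr hu hqu ((mem_fixf).2 hzfix)
  have hzo : orderOf z ∣ u + 1 := by
    apply orderOf_dvd_of_pow_eq_one
    rw [pow_succ', ← hzq]
    exact hzu
  -- the divisibility
  have hdiv : orderOf z * Nat.gcd (2 * 2 ^ (t + 1) + 1) (u + 1) ∣ u + 1 := by
    refine dvd_of_prime_cond (r := r) (s := s) (t := t + 1) hu2 hue hr hr1 hs hscop hzo ?_ ?_
    · have h1 := key r (by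
        rw [hβr]
        exact (Nat.Coprime.coprime_dvd_right hzo hscop).symm)
      rw [hβr] at h1
      rw [← hqu]
      have e : 2 ^ (t + 1 + 1) = 2 * 2 ^ (t + 1) := by rw [pow_succ]; ring
      rw [e]
      exact h1
    · intro hsr
      have h1 := key 1 (by
        rw [pow_one, hβo]
        refine Nat.Coprime.mul_left ?_ (Nat.Coprime.coprime_dvd_right hzo hscop).symm
        rcases hr1 with h | h
        · rw [h]; exact Nat.coprime_one_left s
        · exact (Nat.coprime_primes h hs).2 (Ne.symm hsr))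
      rw [pow_one, hβo] at h1
      rw [← hqu]
      have e : 2 ^ (t + 1 + 1) = 2 * 2 ^ (t + 1) := by rw [pow_succ]; ring
      rw [e]
      exact h1
  -- the root
  obtain ⟨y, hy1, hyn, hyρ⟩ : ∃ y : F, y * y ^ q = 1 ∧ y ^ (2 * 2 ^ (t + 1) + 1) = z ∧ ρ y = y := by
    let z' : (↥(fixf ρ))ˣ := Units.mk0 ⟨z, (mem_fixf).2 hzfix⟩ (fun h => hz0 (congrArg Subtype.val h))
    have hz'o : orderOf z' = orderOf z := by
      rw [← orderOf_units]
      exact (orderOf_injective (fixf ρ).subtype.toMonoidHom (fixf ρ).subtype.injective _).symm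
    have hcard : u + 1 ∣ Nat.card (↥(fixf ρ))ˣ := by
      rw [Nat.card_units, hu]
      have := Nat.sq_sub_sq u 1
      rw [one_pow] at this
      rw [this]
      exact dvd_mul_right _ _
    obtain ⟨y, hy1, hy2⟩ := exists_root (C := (↥(fixf ρ))ˣ) (M := u + 1) (n := 2 * 2 ^ (t + 1) + 1) hcard (z := z')
      (by rw [hz'o]; exact hdiv)
    have e1 : (((y : ↥(fixf ρ)) : F)) ^ (u + 1) = 1 := by
      have := congrArg (fun w : (↥(fixf ρ))ˣ => ((w : ↥(fixf ρ)) : F)) hy1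
      simpa using this
    have e2 : (((y : ↥(fixf ρ)) : F)) ^ (2 * 2 ^ (t + 1) + 1) = z := by
      have := congrArg (fun w : (↥(fixf ρ))ˣ => ((w : ↥(fixf ρ)) : F)) hy2
      simpa [z'] using this
    refine ⟨((y : ↥(fixf ρ)) : F), ?_, e2, (mem_fixf).1 (y : ↥(fixf ρ)).2⟩
    rw [pow_q hr hu hqu (y : ↥(fixf ρ)).2, ← pow_succ', e1]
  obtain ⟨c, hc1, hc⟩ := exists_norm_one hF hρ hr hyρ hy1
  have hcn : nrm ρ r c = y := hc
  have hc0 : c ≠ 0 := by
    rintro rfl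
    rw [zero_mul] at hc1
    exact zero_ne_one hc1
  have hci : c⁻¹ * c⁻¹ ^ q = 1 := by rw [inv_pow, ← mul_inv, hc1, inv_one]
  -- the corrected automorphism
  obtain ⟨δ', hδ'⟩ : ∃ δ', δ' = δ * (c⁻¹) ^ (2 * 2 ^ (t + 1) + 1) := ⟨_, rfl⟩
  have hδ'1 : δ' * δ' ^ q = 1 := by
    have h1 : (c⁻¹) ^ (2 * 2 ^ (t + 1) + 1) * ((c⁻¹) ^ (2 * 2 ^ (t + 1) + 1)) ^ q = 1 := by
      rw [← pow_mul, mul_comm (2 * 2 ^ (t + 1) + 1) q, pow_mul, ← mul_pow, hci, one_pow]
    rw [hδ', mul_pow]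
    calc δ * (c⁻¹) ^ (2 * 2 ^ (t + 1) + 1) * (δ ^ q * ((c⁻¹) ^ (2 * 2 ^ (t + 1) + 1)) ^ q)
        = (δ * δ ^ q) * ((c⁻¹) ^ (2 * 2 ^ (t + 1) + 1) * ((c⁻¹) ^ (2 * 2 ^ (t + 1) + 1)) ^ q) := by ring
      _ = 1 := by rw [hδ1, h1, one_mul]
  have hN' : nrm ρ r δ' = 1 := by
    rw [hδ', nrm_mul, nrm_pow, nrm_inv, ← hz, hcn, inv_pow, hyn, mul_inv_cancel₀ hz0]
  set β' : MulAut (PSU (2 * 2 ^ (t + 1) + 1) F q) := toAut (dg (2 * 2 ^ (t + 1)) δ' hδ'1) ρ with hβ'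
  have hβ'A : β' ∈ 𝒜 := mem_of_det hI hB hci (by rw [det_dg, hδ', hδ])
  have hβ'r : β' ^ r = 1 := by
    obtain ⟨h, hj⟩ := exists_pow_dg (k := 2 * 2 ^ (t + 1)) ρ δ' hδ'1 r
    rw [hβ', hj, hρr]
    have h2 : dg (2 * 2 ^ (t + 1)) (nrm ρ r δ') h = 1 := by
      apply gm_inj
      rw [gm_dg, gm_one, hN', ext1_one]
    rw [h2, toAut_one]
  by_cases h1 : r = 1
  · -- inner-diagonal automorphisms
    refine ⟨h1, ?_⟩
    have hρ1 : ρ = 1 := by rw [← orderOf_eq_one_iff, hρ, h1]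
    have h2 : δ = c ^ (2 * 2 ^ (t + 1) + 1) := by
      rw [h1] at hN'
      unfold nrm at hN'
      rw [Finset.prod_range_one, pow_zero, RingAut.one_apply, hδ', inv_pow] at hN'
      exact mul_inv_eq_one₀ (pow_ne_zero _ hc0) |>.1 hN'
    rw [hρ1]
    exact inn_of_det hc1 (by rw [← hδ, h2])
  · exfalso
    have hrp : r.Prime := hr1.resolve_left h1
    have hr2 : r ≠ 2 := by
      rintro rfl
      exact absurd hr (by decide)
    have hρ1 : ρ ≠ 1 := by
      intro h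
      rw [h, orderOf_one] at hρ
      exact h1 hρ.symm
    obtain ⟨-, M, hM⟩ := exists_conj hF (by omega) hrp hr2 (A := dg (2 * 2 ^ (t + 1)) δ' hδ'1) hβ'r hρ1
    have e : 2 * 2 ^ (t + 1) + 1 = 2 ^ (t + 2) + 1 := by rw [pow_succ _ (t + 1)]; ring
    obtain ⟨U, hU, hUρ⟩ : ∃ U : SU (2 * 2 ^ (t + 1) + 1) F q, orderOf U = 2 ^ (t + 3) ∧ semiConj 1 ρ U = U := by
      rw [e]
      exact exists_fixed_U (t := t + 2) hF hr hu hqu (by omega)
    have hUp : orderOf (pr (2 * 2 ^ (t + 1) + 1) F q U) = 2 ^ (t + 3) := by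
      have h1 := Cfsg.Agent.H373.SpEmb.orderOf_pr (n := 2 * 2 ^ (t + 1) + 1) hF (by omega) (y := U)
        (by rw [hU]; exact Nat.Coprime.pow_left _ (Nat.coprime_two_left.2 hq.add_one))
      rw [hU] at h1
      exact h1
    set V : PSU (2 * 2 ^ (t + 1) + 1) F q := toAut M 1 (pr _ F q U) with hV
    have hVo : orderOf V = 2 ^ (t + 3) := by
      rw [hV, ← hUp]
      exact orderOf_injective (toAut M 1 : MulAut (PSU _ F q)).toMonoidHom (toAut M 1 : MulAut (PSU _ F q)).injective _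
    have hβV : β' V = V := by
      rw [hβ', hM, hV, MulAut.mul_apply, MulAut.mul_apply, MulAut.inv_apply_self]
      congr 1
      rw [toAut_pr', hUρ]
    have hβ'o : orderOf β' = r := by
      have : Fact r.Prime := ⟨hrp⟩
      apply orderOf_eq_prime hβ'r
      intro h
      exact hρ1 (toAut_dg_eq_one hF hk2 h).2
    obtain ⟨a, haA, ha⟩ := exists_prod hZ hI hβ'A hβV (by
      rw [hβ'o, hVo]
      exact Nat.Coprime.pow_right _ ((Nat.coprime_primes hrp Nat.prime_two).2 hr2))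
    obtain ⟨g, hg⟩ := hω a haA
    rw [ha, hβ'o, hVo] at hg
    have hpos : 0 < orderOf g := orderOf_pos g
    have h3 : orderOf g = 2 ^ (t + 3) := by
      have hgen : ∀ (n : ℕ) (hn : n = 2 ^ (t + 2) + 1) (g : PSU n F q), 2 ^ (t + 2 + 1) ∣ orderOf g → 0 < orderOf g →
          orderOf g = 2 ^ (t + 2 + 1) := by
        intro n hn g
        subst hn
        exact fun h1 h2 => lin_top hF (by omega) h1 h2
      exact hgen _ e g (by rw [hg]; exact dvd_mul_left _ _) hpos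
    rw [h3] at hg
    have h4 : 0 < 2 ^ (t + 3) := by positivity
    have h5 := hrp.two_le
    nlinarith

end odd

section two

open Cfsg.Agent.H373 (CoverTwo.Iso)

/-- an element of prime order `s ∣ q ^ (2 ^ (t + 1)) + 1` of `SU` fixed by the field automorphism of order two -/
theorem exists_fixed_two [CharP F 2] (hF : Fintype.card F = q ^ 2) {ρ : F ≃+* F} (hρ : ∀ x : F, ρ x = x ^ q)
    {m : ℕ} {s : ℕ} (hs : s.Prime) (hsd : s ∣ q ^ (2 * m) - 1) (hm : 1 ≤ m) (hcop : Nat.Coprime s (q + 1)) :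
    ∃ X : SU (2 * m + 1) F q, orderOf X = s ∧ semiConj 1 ρ X = X := by
  classical
  obtain ⟨Φ, hΦ, hJΦ⟩ := Cfsg.Agent.H373.SpEmb.exists_spHom (n := 2 * m + 1) (m := m) hF rfl
    (Cfsg.Agent.H373.CoverOdd.au_std (n := 2 * m + 1) hF)
  have hfin : Finite (Cfsg.Agent.H373.CoverTwo.fixF hF) := inferInstance
  let _ : Fintype (Cfsg.Agent.H373.CoverTwo.fixF hF) := Fintype.ofFinite _
  have hcard := Cfsg.Agent.LieClassical.SympCount.card_symplecticGroup (F := Cfsg.Agent.H373.CoverTwo.fixF hF) m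
  rw [← Nat.card_eq_fintype_card, Cfsg.Agent.H373.CoverTwo.card_fixF hF] at hcard
  have := Fact.mk hs
  have hsc : s ∣ Nat.card (Matrix.symplecticGroup (Fin m) (Cfsg.Agent.H373.CoverTwo.fixF hF)) := by
    rw [hcard]
    refine Dvd.dvd.mul_left ?_ _
    refine dvd_trans ?_ (Finset.dvd_prod_of_mem _ (show m - 1 ∈ Finset.range m by
      rw [Finset.mem_range]; omega))
    rw [Nat.sub_add_cancel hm]
    exact hsd
  obtain ⟨A, hA⟩ := exists_prime_orderOf_dvd_card'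
    (G := Matrix.symplecticGroup (Fin m) (Cfsg.Agent.H373.CoverTwo.fixF hF)) s hsc
  have ho : orderOf (Φ A) = s := by rw [orderOf_injective Φ hΦ, hA]
  have hker : Φ A ∈ (Cfsg.Agent.H373.CoverTwo.detH (2 * m + 1) F q).ker := by
    have h1 : orderOf (Cfsg.Agent.H373.CoverTwo.detH (2 * m + 1) F q (Φ A)) ∣ Nat.gcd s (q + 1) := by
      refine Nat.dvd_gcd ?_ (orderOf_dvd_of_pow_eq_one (Cfsg.Agent.H373.CoverTwo.detH_pow hF _))
      rw [← ho]
      exact orderOf_map_dvd _ _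
    rw [hcop.gcd_eq_one] at h1
    rw [MonoidHom.mem_ker, ← orderOf_eq_one_iff]
    exact Nat.dvd_one.1 h1
  refine ⟨Cfsg.Agent.H373.CoverTwo.nu (2 * m + 1) F q ⟨Φ A, hker⟩, ?_, ?_⟩
  · rw [orderOf_injective _ Cfsg.Agent.H373.CoverTwo.nu_injective, ← Subgroup.orderOf_coe]
    exact ho
  · apply ext_act
    intro v
    rw [Cfsg.Agent.Schreier.PSU.act_semiConj_field', act_nu, act_nu]
    have h1 : v = fun i => ρ ((fun j => ρ.symm (v j)) i) := by
      funext i; simp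
    conv_rhs => rw [h1]
    generalize (fun j => ρ.symm (v j)) = w
    have h2 := hJΦ A w
    funext i
    have h3 := congrFun h2 i
    beta_reduce at h3
    rw [hρ, h3]
    have h4 : (fun j => w j ^ q) = fun j => ρ (w j) := funext fun j => (hρ _).symm
    rw [h4]

/-- **No automorphisms with field part of order two.** -/
theorem two_case [CharP F 2] (hF : Fintype.card F = q ^ 2) {t : ℕ} (hq : Even q)
    (hZ : Subgroup.center (PSU (2 * 2 ^ (t + 1) + 1) F q) = ⊥)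
    {𝒜 : Subgroup (MulAut (PSU (2 * 2 ^ (t + 1) + 1) F q))} (hI : Inn (2 * 2 ^ (t + 1) + 1) F q ≤ 𝒜)
    (hω : ∀ a ∈ 𝒜, ∃ x : PSU (2 * 2 ^ (t + 1) + 1) F q, orderOf x = orderOf a)
    {B : GU (2 * 2 ^ (t + 1) + 1) F q} {ρ : F ≃+* F} (hρ : orderOf ρ = 2) (hB : toAut B ρ ∈ 𝒜) : False := by
  have hρq := eq_pow_of_order_two hF hρ
  have hq2 : 2 ≤ q := Cfsg.Agent.LieClassical.GUOrder.two_le hF
  -- the prime `s`
  obtain ⟨s, hs, hsd⟩ := Nat.exists_prime_and_dvd (n := q ^ 2 ^ (t + 1) + 1) (by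
    have : 0 < q ^ 2 ^ (t + 1) := by positivity
    omega)
  have hs2 : s ≠ 2 := by
    rintro rfl
    have h1 : Even (q ^ 2 ^ (t + 1)) := Nat.even_pow.2 ⟨hq, by positivity⟩
    rw [← even_iff_two_dvd, Nat.even_add_one] at hsd
    exact hsd h1
  have hidx : orderOf ((-(q : ℤ) : ℤ) : ZMod s) = 2 * 2 ^ (t + 1) := by
    have := order_index (t := t) (r := 1) hs hs2 hsd odd_one
    rw [pow_one] at this
    rw [this, pow_succ, pow_succ]
    ring
  have hscop : Nat.Coprime s (q + 1) := coprime_index hs hs2 hsd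
  have hsk : s ∣ q ^ (2 * 2 ^ (t + 1)) - 1 := by
    have h1 : q ^ (2 * 2 ^ (t + 1)) - 1 = (q ^ 2 ^ (t + 1) + 1) * (q ^ 2 ^ (t + 1) - 1) := by
      have h2 := Nat.sq_sub_sq (q ^ 2 ^ (t + 1)) 1
      rw [one_pow, ← pow_mul, mul_comm (2 ^ (t + 1)) 2] at h2
      exact h2
    rw [h1]
    exact hsd.mul_right _
  obtain ⟨X, hXo, hX⟩ := exists_fixed_two hF hρq (m := 2 ^ (t + 1)) hs hsk Nat.one_le_two_pow hscop
  have hXp : orderOf (pr (2 * 2 ^ (t + 1) + 1) F q X) = s := by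
    have h1 := Cfsg.Agent.H373.SpEmb.orderOf_pr (n := 2 * 2 ^ (t + 1) + 1) hF (by
      have : 0 < 2 ^ (t + 1) := by positivity
      omega) (y := X) (by rw [hXo]; exact hscop)
    rw [hXo] at h1
    exact h1
  have hfy : (f₂ ρ : MulAut (PSU (2 * 2 ^ (t + 1) + 1) F q)) (pr _ F q X) = pr _ F q X := by
    exact (toAut_pr' 1 ρ _).trans (congrArg (pr _ F q) hX)
  -- the automorphism
  obtain ⟨C, hC⟩ : ∃ C : GU (2 * 2 ^ (t + 1) + 1) F q, C = B ^ (2 ^ (t + 1) + 1) := ⟨_, rfl⟩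
  have hdetpow : ∀ j : ℕ, (gm (B ^ j)).det = (gm B).det ^ j := by
    intro j
    induction j with
    | zero => rw [pow_zero, pow_zero, gm_one, det_one]
    | succ j ih => rw [pow_succ B j, det_gm_mul, ih, ← pow_succ]
  have hCd : (gm C).det = (gm B).det ^ (2 ^ (t + 1) + 1) := by rw [hC, hdetpow]
  set β : MulAut (PSU (2 * 2 ^ (t + 1) + 1) F q) := f₁ C * f₂ ρ * (f₁ C)⁻¹ with hβ
  have hβ' : β = f₁ (C * mapGU ρ C⁻¹) * f₂ ρ := by
    rw [hβ, ← map_inv, mul_assoc, f₂_inv_mul, map_mul, mul_assoc]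
  have hβA : β ∈ 𝒜 := by
    rw [hβ', ← toAut_eq]
    have h2 := det_unit hF B
    refine mem_of_det hI hB h2 ?_
    rw [det_gm_mul, det_mapGU, hρq, hCd]
    have h3 := det_gm_inv C
    rw [hCd] at h3
    set δ := (gm B).det with hδ
    have hδ0 : δ ≠ 0 := det_ne B
    have h5 : (gm C⁻¹).det = (δ ^ (2 ^ (t + 1) + 1))⁻¹ := eq_inv_of_mul_eq_one_left h3
    have h7 : δ ^ q = δ⁻¹ := eq_inv_of_mul_eq_one_right h2
    have h8 : ((δ ^ (2 ^ (t + 1) + 1))⁻¹) ^ q = δ ^ (2 ^ (t + 1) + 1) := by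
      rw [inv_pow, ← pow_mul, mul_comm _ q, pow_mul, h7, inv_pow, inv_inv]
    rw [h5, h8]
    ring
  -- the fixed element
  have hβy : β (f₁ C (pr _ F q X)) = f₁ C (pr _ F q X) := by
    rw [hβ, MulAut.mul_apply, MulAut.mul_apply, MulAut.inv_apply_self, hfy]
  have hβ2 : β ^ 2 = 1 := by
    have h1 : (f₂ ρ : MulAut (PSU (2 * 2 ^ (t + 1) + 1) F q)) ^ 2 = 1 := by
      rw [← map_pow, ← hρ, pow_orderOf_eq_one, map_one]
    rw [hβ, conj_pow, h1]
    group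
  have hβ1 : β ≠ 1 := by
    intro h
    rw [hβ', ← toAut_eq] at h
    have h2 := (eq_of_toAut_eq (A := 1) (ρ := 1) hF (by
      have : 0 < 2 ^ (t + 1) := by positivity
      omega) ((toAut_one (F := F) (n := 2 * 2 ^ (t + 1) + 1) (q := q)).trans h.symm)).1
    rw [h2, orderOf_one] at hρ
    omega
  have hβo : orderOf β = 2 := orderOf_eq_prime hβ2 hβ1
  have hyo : orderOf (f₁ C (pr _ F q X)) = s := by
    rw [← hXp]
    exact orderOf_injective (f₁ C : MulAut (PSU _ F q)).toMonoidHom (f₁ C : MulAut (PSU _ F q)).injective _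
  obtain ⟨a, haA, ha⟩ := exists_prod hZ hI hβA hβy (by
    rw [hβo, hyo]
    exact (Nat.coprime_primes Nat.prime_two hs).2 (Ne.symm hs2))
  obtain ⟨g, hg⟩ := hω a haA
  rw [ha, hβo, hyo] at hg
  have h1 := lin_dvd hF (n := 2 * 2 ^ (t + 1) + 1) (by
    have : 0 < 2 ^ (t + 1) := by positivity
    omega) (by rw [Nat.add_sub_cancel]; exact even_two_mul _) (g := g) hs (by rw [Nat.add_sub_cancel]; exact hidx)
    (by rw [hg]; exact dvd_mul_left _ _) (orderOf_pos g)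
  rw [hg, Nat.add_sub_cancel] at h1
  have h2 : 2 ∣ q ^ (2 * 2 ^ (t + 1)) - 1 := by
    refine dvd_trans ?_ h1
    exact (dvd_mul_right 2 s).mul_right _
  have h3 : Even (q ^ (2 * 2 ^ (t + 1))) := Nat.even_pow.2 ⟨hq, by positivity⟩
  have h4 : 0 < q ^ (2 * 2 ^ (t + 1)) := by positivity
  obtain ⟨w, hw⟩ := h3
  omega

end two

section final

/-- **All automorphisms are inner.** -/
theorem le_inn [CharP F 2] (hF : Fintype.card F = q ^ 2) {t : ℕ} (hq : Even q)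
    (hZ : Subgroup.center (PSU (2 * 2 ^ (t + 1) + 1) F q) = ⊥)
    {𝒜 : Subgroup (MulAut (PSU (2 * 2 ^ (t + 1) + 1) F q))} (hI : Inn (2 * 2 ^ (t + 1) + 1) F q ≤ 𝒜)
    (hω : ∀ a ∈ 𝒜, ∃ x : PSU (2 * 2 ^ (t + 1) + 1) F q, orderOf x = orderOf a) :
    𝒜 ≤ Inn (2 * 2 ^ (t + 1) + 1) F q := by
  intro a ha
  have hfin : Finite (F ≃+* F) := Finite.of_injective (fun α : F ≃+* F => (α : F → F)) DFunLike.coe_injective
  obtain ⟨B, ρ, rfl⟩ := Cfsg.Agent.ClassicalGeometry.PSUAutMain.exists_toAut hF (by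
    have : 0 < 2 ^ (t + 1) := by positivity
    omega) (by
      rintro ⟨h1, -⟩
      have : 2 ≤ 2 ^ (t + 1) := by
        calc 2 = 2 ^ 1 := by norm_num
          _ ≤ _ := Nat.pow_le_pow_right (by norm_num) (by omega)
      omega) a
  by_cases h1 : orderOf ρ = 1
  · exact (odd_case hF hq hZ hI hω h1 odd_one (Or.inl rfl) ha).2
  · exfalso
    obtain ⟨r, hr, hrd⟩ := Nat.exists_prime_and_dvd h1
    obtain ⟨w, hw⟩ := hrd
    have hpos := orderOf_pos ρ
    have hw0 : w ≠ 0 := by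
      rintro rfl
      omega
    obtain ⟨B', hB', -⟩ := exists_pow B ρ w
    have hB'A : toAut B' (ρ ^ w) ∈ 𝒜 := by
      rw [← hB']
      exact 𝒜.pow_mem ha w
    have ho : orderOf (ρ ^ w) = r := by
      rw [orderOf_pow_of_dvd hw0 (by rw [hw]; exact dvd_mul_left _ _), hw, Nat.mul_div_cancel _ (Nat.pos_of_ne_zero hw0)]
    by_cases hr2 : r = 2
    · rw [hr2] at ho
      exact two_case hF hq hZ hI hω ho hB'A
    · exact hr.ne_one (odd_case hF hq hZ hI hω ho (hr.odd_of_ne_two hr2) (Or.inr hr) hB'A).1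

end final

end Cfsg.Agent.H195.OutU.Main
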