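import Mathlib

/-!
# Number theory for the outer automorphisms of `PSU_n(2^m)`, `n = 2 ^ t + 1` (helper195)

* `order_index` : the index of a prime divisor of `u ^ (2 ^ (t - 1)) + 1`;
* `dvd_of_prime_cond` : the divisibility `o * gcd (n, u + 1) ∣ u + 1`;
* `exists_root` : `n`-th roots in cyclic groups.
-/

set_option autoImplicit false

namespace Cfsg.Agent.H195.OutU.Num

/-- order of `-u ^ r`, `r` odd, modulo a prime divisor of `u ^ (2 ^ (t + 1)) + 1` -/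
theorem order_index {s u r t : ℕ} (hs : s.Prime) (hs2 : s ≠ 2) (hd : s ∣ u ^ 2 ^ (t + 1) + 1) (hr : Odd r) :
    orderOf ((-((u ^ r : ℕ) : ℤ) : ℤ) : ZMod s) = 2 ^ (t + 2) := by
  have := Fact.mk hs
  have h22 : Fact (Nat.Prime 2) := ⟨Nat.prime_two⟩
  have h1 : ((u : ℕ) : ZMod s) ^ 2 ^ (t + 1) = -1 := by
    have h2 : ((u ^ 2 ^ (t + 1) + 1 : ℕ) : ZMod s) = 0 := (ZMod.natCast_eq_zero_iff _ _).2 hd
    push_cast at h2
    linear_combination h2
  have hpow : ((-((u ^ r : ℕ) : ℤ) : ℤ) : ZMod s) ^ 2 ^ (t + 1) = -1 := by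
    have e : Even (2 ^ (t + 1)) := (Nat.even_pow.2 ⟨even_two, Nat.succ_ne_zero t⟩)
    push_cast
    rw [e.neg_pow, ← pow_mul, mul_comm r, pow_mul, h1, hr.neg_one_pow]
  refine orderOf_eq_prime_pow (p := 2) (n := t + 1) ?_ ?_
  · rw [hpow]
    intro h
    have h3 : ((2 : ℕ) : ZMod s) = 0 := by
      push_cast
      linear_combination -h
    have h4 := (ZMod.natCast_eq_zero_iff 2 s).1 h3
    exact hs2 ((Nat.prime_dvd_prime_iff_eq hs Nat.prime_two).1 h4)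
  · rw [pow_succ, pow_mul, hpow]
    norm_num

theorem coprime_index {s u t : ℕ} (hs : s.Prime) (hs2 : s ≠ 2) (hd : s ∣ u ^ 2 ^ (t + 1) + 1) :
    Nat.Coprime s (u + 1) := by
  rw [Nat.Prime.coprime_iff_not_dvd hs]
  intro h
  have h1 : ((u : ℕ) : ZMod s) = -1 := by
    have h2 : ((u + 1 : ℕ) : ZMod s) = 0 := (ZMod.natCast_eq_zero_iff _ _).2 h
    push_cast at h2
    linear_combination h2
  have h2 : ((u ^ 2 ^ (t + 1) + 1 : ℕ) : ZMod s) = 0 := (ZMod.natCast_eq_zero_iff _ _).2 hd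
  push_cast at h2
  have e : Even (2 ^ (t + 1)) := (Nat.even_pow.2 ⟨even_two, Nat.succ_ne_zero t⟩)
  rw [h1, e.neg_pow, one_pow] at h2
  have h3 : ((2 : ℕ) : ZMod s) = 0 := by
    push_cast
    linear_combination h2
  have h4 := (ZMod.natCast_eq_zero_iff 2 s).1 h3
  exact hs2 ((Nat.prime_dvd_prime_iff_eq hs Nat.prime_two).1 h4)

/-- the `ℓ`-part of `u ^ (r 2 ^ (t + 1)) - 1`, `ℓ ∣ u + 1` odd -/
theorem val_pow {l u r t : ℕ} [hl : Fact l.Prime] (hl2 : l ≠ 2) (hu : 2 ≤ u) (hlu : l ∣ u + 1) (hr : r ≠ 0) :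
    padicValNat l ((u ^ r) ^ 2 ^ (t + 1) - 1) = padicValNat l (u + 1) + padicValNat l r := by
  have h1 : (u ^ r) ^ 2 ^ (t + 1) = (u ^ 2) ^ (r * 2 ^ t) := by
    rw [← pow_mul, ← pow_mul]
    congr 1
    rw [pow_succ]
    ring
  have hl1 : ¬ l ∣ u - 1 := by
    intro h
    have h2 : l ∣ (u + 1) - (u - 1) := Nat.dvd_sub hlu h
    have h3 : (u + 1) - (u - 1) = 2 := by omega
    rw [h3] at h2
    exact hl2 ((Nat.prime_dvd_prime_iff_eq hl.out Nat.prime_two).1 h2)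
  have hsq : u ^ 2 - 1 = (u + 1) * (u - 1) := by
    have := Nat.sq_sub_sq u 1
    simpa using this
  have hlu0 : ¬ l ∣ u ^ 2 := by
    intro h
    have h2 : l ∣ u := hl.out.dvd_of_dvd_pow h
    have h3 : l ∣ (u + 1) - u := Nat.dvd_sub hlu h2
    rw [Nat.add_sub_cancel_left] at h3
    exact hl.out.one_lt.ne' (Nat.dvd_one.1 h3)
  have h4 := padicValNat.pow_sub_pow (x := u ^ 2) (y := 1) (p := l) (hl.out.odd_of_ne_two hl2)
    (by nlinarith) (by rw [hsq]; exact hlu.mul_right _) hlu0 (n := r * 2 ^ t) (by positivity)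
  rw [one_pow, ← h1] at h4
  rw [h4, hsq, padicValNat.mul (by omega) (by omega), padicValNat.eq_zero_of_not_dvd hl1, add_zero,
    padicValNat.mul hr (by positivity)]
  have h5 : padicValNat l (2 ^ t) = 0 := by
    apply padicValNat.eq_zero_of_not_dvd
    intro h
    exact hl2 ((Nat.prime_dvd_prime_iff_eq hl.out Nat.prime_two).1 (hl.out.dvd_of_dvd_pow h))
  rw [h5, add_zero]

/-- **The divisibility.** -/
theorem dvd_of_prime_cond {u r n s o t : ℕ} (hu : 2 ≤ u) (hue : Even u) (hr : Odd r) (hr1 : r = 1 ∨ r.Prime)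
    (hs : s.Prime) (hsu : Nat.Coprime s (u + 1)) (ho : o ∣ u + 1)
    (h1 : o * s * Nat.gcd n (u ^ r + 1) ∣ (u ^ r) ^ 2 ^ (t + 1) - 1)
    (h2 : s ≠ r → r * o * s * Nat.gcd n (u ^ r + 1) ∣ (u ^ r) ^ 2 ^ (t + 1) - 1) :
    o * Nat.gcd n (u + 1) ∣ u + 1 := by
  have hgd : Nat.gcd n (u + 1) ∣ Nat.gcd n (u ^ r + 1) := by
    apply Nat.gcd_dvd_gcd_of_dvd_right
    have := hr.nat_add_dvd_pow_add_pow u 1
    simpa using this
  have hu1 : u + 1 ≠ 0 := by omega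
  have hodd : Odd (u + 1) := hue.add_one
  have ho0 : o ≠ 0 := by
    rintro rfl
    rw [zero_dvd_iff] at ho
    omega
  have hg0 : Nat.gcd n (u + 1) ≠ 0 := (Nat.gcd_pos_of_pos_right _ (by omega)).ne'
  have hd0 : Nat.gcd n (u ^ r + 1) ≠ 0 := (Nat.gcd_pos_of_pos_right _ (by positivity)).ne'
  have hbig : (u ^ r) ^ 2 ^ (t + 1) - 1 ≠ 0 := by
    have h3 : 1 < (u ^ r) ^ 2 ^ (t + 1) := by
      refine Nat.one_lt_pow (by positivity) ?_
      exact Nat.one_lt_pow hr.pos.ne' (by omega)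
    omega
  rw [← Nat.factorization_le_iff_dvd (mul_ne_zero ho0 hg0) hu1]
  intro l
  by_cases hl : l.Prime
  swap
  · rw [Nat.factorization_eq_zero_of_not_prime _ hl]
    exact Nat.zero_le _
  by_cases hlu : l ∣ u + 1
  swap
  · rw [Nat.factorization_eq_zero_of_not_dvd]
    · exact Nat.zero_le _
    · intro h
      rcases (Nat.Prime.dvd_mul hl).1 h with h | h
      · exact hlu (h.trans ho)
      · exact hlu (h.trans (Nat.gcd_dvd_right _ _))
  have := Fact.mk hl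
  have hl2 : l ≠ 2 := by
    rintro rfl
    rw [← even_iff_two_dvd, ← Nat.not_odd_iff_even] at hlu
    exact hlu hodd
  have hsl : s ≠ l := by
    rintro rfl
    rw [Nat.Prime.coprime_iff_not_dvd hs] at hsu
    exact hsu hlu
  have hval := val_pow (l := l) (u := u) (r := r) (t := t) hl2 hu hlu hr.pos.ne'
  rw [Nat.factorization_def _ hl, Nat.factorization_def _ hl, padicValNat.mul ho0 hg0]
  have hgv : padicValNat l (Nat.gcd n (u + 1)) ≤ padicValNat l (Nat.gcd n (u ^ r + 1)) :=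
    (padicValNat_dvd_iff_le hd0).1 (pow_padicValNat_dvd.trans hgd)
  have hmono : ∀ a : ℕ, a ≠ 0 → a ∣ (u ^ r) ^ 2 ^ (t + 1) - 1 → padicValNat l a ≤ padicValNat l ((u ^ r) ^ 2 ^ (t + 1) - 1) :=
    fun a _ h => (padicValNat_dvd_iff_le hbig).1 (pow_padicValNat_dvd.trans h)
  by_cases hlr : l = r
  · -- the prime `r`
    have h3 := hmono _ (mul_ne_zero (mul_ne_zero (mul_ne_zero hr.pos.ne' ho0) hs.ne_zero) hd0)
      (h2 (by rw [← hlr]; exact hsl))
    rw [padicValNat.mul (mul_ne_zero (mul_ne_zero hr.pos.ne' ho0) hs.ne_zero) hd0,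
      padicValNat.mul (mul_ne_zero hr.pos.ne' ho0) hs.ne_zero, padicValNat.mul hr.pos.ne' ho0, hval] at h3
    omega
  · have h4 : padicValNat l r = 0 := by
      rcases hr1 with rfl | hrp
      · simp
      · exact padicValNat.eq_zero_of_not_dvd fun h => hlr ((Nat.prime_dvd_prime_iff_eq hl hrp).1 h)
    have h3 := hmono _ (mul_ne_zero (mul_ne_zero ho0 hs.ne_zero) hd0) h1
    rw [padicValNat.mul (mul_ne_zero ho0 hs.ne_zero) hd0,
      padicValNat.mul ho0 hs.ne_zero, hval, h4] at h3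
    omega

/-- **Roots in cyclic groups.** -/
theorem exists_root {C : Type*} [CommGroup C] [Finite C] [IsCyclic C] {M n : ℕ} (hM : M ∣ Nat.card C) {z : C}
    (h : orderOf z * Nat.gcd n M ∣ M) : ∃ y : C, y ^ M = 1 ∧ y ^ n = z := by
  obtain ⟨M', hM'⟩ := hM
  have hpos : 0 < Nat.card C := Nat.card_pos
  have hM0 : M ≠ 0 := by rintro rfl; omega
  have hM'0 : M' ≠ 0 := by rintro rfl; omega
  obtain ⟨γ, hγ⟩ := IsCyclic.exists_ofOrder_eq_natCard (α := C)
  have hgen : ∀ x : C, x ∈ Subgroup.zpowers γ := by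
    intro x
    have h1 : Subgroup.zpowers γ = ⊤ := by
      apply Subgroup.eq_top_of_card_eq
      rw [Nat.card_zpowers, hγ]
    rw [h1]
    trivial
  obtain ⟨a, ha⟩ := Subgroup.mem_zpowers_iff.1 (hgen z)
  obtain ⟨w, hw⟩ := h
  -- `z ^ o = 1`
  have h1 : γ ^ (a * (orderOf z : ℤ)) = 1 := by
    rw [zpow_mul, ha, zpow_natCast, pow_orderOf_eq_one]
  have h2 := orderOf_dvd_iff_zpow_eq_one.2 h1
  rw [hγ, hM', hw] at h2
  have ho : (orderOf z : ℤ) ≠ 0 := by exact_mod_cast (orderOf_pos z).ne'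
  have h3 : ((Nat.gcd n M * w * M' : ℕ) : ℤ) ∣ a := by
    refine Int.dvd_of_mul_dvd_mul_right ho ?_
    push_cast at h2 ⊢
    have e : (Nat.gcd n M : ℤ) * w * M' * (orderOf z : ℤ) = (orderOf z : ℤ) * (Nat.gcd n M : ℤ) * w * M' := by ring
    rw [e]
    exact h2
  obtain ⟨b, hb⟩ := h3
  have hbez : ((Nat.gcd n M : ℕ) : ℤ) = n * Nat.gcdA n M + M * Nat.gcdB n M := Nat.gcd_eq_gcd_ab n M
  have hγM : γ ^ ((M : ℤ) * M') = 1 := by
    have : ((M : ℤ) * M') = ((Nat.card C : ℕ) : ℤ) := by rw [hM']; push_cast; ring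
    rw [this, zpow_natCast, ← hγ, pow_orderOf_eq_one]
  refine ⟨γ ^ (M' * w * b * Nat.gcdA n M), ?_, ?_⟩
  · rw [← zpow_natCast, ← zpow_mul]
    have e : (M' : ℤ) * w * b * Nat.gcdA n M * M = ((M : ℤ) * M') * (w * b * Nat.gcdA n M) := by ring
    rw [e, zpow_mul, hγM, one_zpow]
  · rw [← ha, ← zpow_natCast, ← zpow_mul]
    have e : a = (M' : ℤ) * w * b * Nat.gcdA n M * n + ((M : ℤ) * M') * (w * b * Nat.gcdB n M) := by
      rw [hb]
      push_cast
      rw [hbez]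
      ring
    conv_rhs => rw [e, zpow_add, zpow_mul γ ((M : ℤ) * M'), hγM, one_zpow, mul_one]

end Cfsg.Agent.H195.OutU.Num
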